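import Groth.Agent.Desc59.MD.Univ

/-!
The coaction attached to a descent datum of modules.
-/

set_option autoImplicit false
set_option backward.isDefEq.respectTransparency false
set_option backward.isDefEq.respectTransparency.types false
set_option backward.defeqAttrib.useBackward true

universe u

open CategoryTheory Opposite TensorProduct
open scoped ChangeOfRings

namespace Groth.Agent.Desc59.MD

noncomputable section

variable {R S : Type u} [CommRing R] [CommRing S] [Algebra R S] (D : DD (base R S))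

/-- the coaction -/
def ψ : Nof D →+ S ⊗[R] Nof D :=
  (L (Nof D)).comp (AddMonoidHom.mk'
    (fun n => homAt D (inl R S) (inr R S) (base_inl_inr R S) (el (inl R S) n)) fun x y => by
      rw [el_add, map_add])

theorem ψ_apply (n : Nof D) :
    ψ D n = L (Nof D) (homAt D (inl R S) (inr R S) (base_inl_inr R S) (el (inl R S) n)) := rfl

theorem homAt_el {B : CommRingCat.{u}} (a b : CommRingCat.of S ⟶ B) (hab : base R S ≫ a = base R S ≫ b)
    (n : Nof D) : homAt D a b hab (el a n) = K (Nof D) a b hab (ψ D n) := by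
  rw [ψ_apply, ← push_eq_K]
  exact homAt_push D (toB a b hab) (inl R S) (inr R S) (base_inl_inr R S) a b (inl_toB a b hab)
    (inr_toB a b hab) hab n

theorem ψ_smul (s : S) (n : Nof D) : ψ D (s • n) = s • ψ D n := by
  rw [ψ_apply, ψ_apply, ← L_inl_smul]
  refine congrArg (L (Nof D)) ?_
  rw [← map_smul]
  exact congrArg _ (el_smul (inl R S) (s : CommRingCat.of S) n)

/-- the coaction as a linear map -/
def ψl : Nof D →ₗ[R] S ⊗[R] Nof D :=
  { ψ D with
    map_smul' := fun r n => by
      show ψ D ((algebraMap R S r) • n) = r • ψ D n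
      rw [ψ_smul, IsScalarTower.algebraMap_smul] }

theorem ψl_apply (n : Nof D) : ψl D n = ψ D n := rfl

/-- the multiplication `S ⊗ N → N` -/
abbrev μ (N : ModuleCat.{u} (CommRingCat.of S)) : S ⊗[R] N →ₗ[R] N :=
  TensorProduct.lift (Algebra.lsmul R R N).toLinearMap

theorem μ_ψ (n : Nof D) : μ (R := R) (Nof D) (ψ D n) = n := by
  have hK : ∀ x : S ⊗[R] Nof D,
      K (Nof D) (𝟙 (CommRingCat.of S)) (𝟙 (CommRingCat.of S)) rfl x =
        el (𝟙 (CommRingCat.of S)) (μ (R := R) (Nof D) x) := by
    intro x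
    induction x with
    | zero => rw [map_zero, map_zero, el_zero]
    | tmul s m =>
      rw [K_tmul]
      exact (el_smul (𝟙 (CommRingCat.of S)) (s : CommRingCat.of S) m).symm
    | add x y hx hy => rw [map_add, hx, hy, map_add, el_add]
  have h1 := homAt_el D (𝟙 _) (𝟙 _) rfl n
  rw [hK] at h1
  have h1' := (ConcreteCategory.congr_hom (homAt_id D) _).symm.trans h1
  have key : ∀ x : Nof D, (ModuleCat.extendScalarsId (CommRingCat.of S)).hom.app (Nof D)
      (el (𝟙 (CommRingCat.of S)) x) = x := fun x => ModuleCat.extendScalarsId_hom_app_one_tmul _ x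
  have h2 := congrArg ((ModuleCat.extendScalarsId (CommRingCat.of S)).hom.app (Nof D)) h1'
  exact (key _).symm.trans (h2.symm.trans (key _))

theorem ψ_injective : Function.Injective (ψl D) := fun x y h => by
  rw [← μ_ψ D x, ← μ_ψ D y]
  exact congrArg _ h

variable (R S) in
theorem base_i₁_i₂ : base R S ≫ i₁ R S = base R S ≫ i₂ R S := by
  ext r
  exact ((Algebra.TensorProduct.includeLeft : S →ₐ[R] S ⊗[R] (S ⊗[R] S)).commutes r).trans
    (((Algebra.TensorProduct.includeRight : S ⊗[R] S →ₐ[R] S ⊗[R] (S ⊗[R] S)).comp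
    (Algebra.TensorProduct.includeLeft : S →ₐ[R] S ⊗[R] S)).commutes r).symm

variable (R S) in
theorem base_i₂_i₃ : base R S ≫ i₂ R S = base R S ≫ i₃ R S := by
  ext r
  exact (((Algebra.TensorProduct.includeRight : S ⊗[R] S →ₐ[R] S ⊗[R] (S ⊗[R] S)).comp
    (Algebra.TensorProduct.includeLeft : S →ₐ[R] S ⊗[R] S)).commutes r).trans
    (((Algebra.TensorProduct.includeRight : S ⊗[R] S →ₐ[R] S ⊗[R] (S ⊗[R] S)).comp
    (Algebra.TensorProduct.includeRight : S →ₐ[R] S ⊗[R] S)).commutes r).symm

theorem ψ_coassoc (n : Nof D) :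
    LinearMap.lTensor S (ψl D) (ψl D n) =
      LinearMap.lTensor S (TensorProduct.mk R S (Nof D) 1) (ψl D n) := by
  have h12 := base_i₁_i₂ R S
  have h23 := base_i₂_i₃ R S
  have hc := ConcreteCategory.congr_hom (homAt_comp D (i₁ R S) (i₂ R S) (i₃ R S) h12 h23) (el (i₁ R S) n)
  rw [ConcreteCategory.comp_apply, homAt_el, homAt_el] at hc
  have h1 := congrArg (L3 (Nof D)) hc
  have e1 : ∀ x : S ⊗[R] Nof D,
      L3 (Nof D) (homAt D (i₂ R S) (i₃ R S) h23 (K (Nof D) (i₁ R S) (i₂ R S) h12 x)) =
        LinearMap.lTensor S (ψl D) x := by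
    intro x
    induction x with
    | zero => rw [map_zero, map_zero, map_zero, map_zero]
    | add x y hx hy => rw [map_add, map_add, map_add, hx, hy, map_add]
    | tmul s m =>
      rw [K_tmul, map_smul, homAt_el, LinearMap.lTensor_tmul, ψl_apply]
      generalize ψ D m = y
      induction y with
      | zero => rw [map_zero, smul_zero, map_zero, TensorProduct.tmul_zero]
      | add x y hx hy => rw [map_add, smul_add, map_add, hx, hy, TensorProduct.tmul_add]
      | tmul s' m' => rw [K_tmul, L3_i₁_i₂]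
  have e2 : ∀ x : S ⊗[R] Nof D, L3 (Nof D) (K (Nof D) (i₁ R S) (i₃ R S) (h12.trans h23) x) =
      LinearMap.lTensor S (TensorProduct.mk R S (Nof D) 1) x := by
    intro x
    induction x with
    | zero => rw [map_zero, map_zero, map_zero]
    | add x y hx hy => rw [map_add, map_add, hx, hy, map_add]
    | tmul s m =>
      rw [K_tmul, L3_i₁, LinearMap.lTensor_tmul]
      rfl
  exact (e1 _).symm.trans (h1.trans (e2 _))

theorem ψ_can_el (M : ModuleCat.{u} (CommRingCat.of R)) (m : M) :
    ψ (can (base R S) M) (el (base R S) m : Nof (can (base R S) M)) =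
      (1 : S) ⊗ₜ[R] (el (base R S) m : Nof (can (base R S) M)) := by
  rw [ψ_apply]
  refine (congrArg _ (homAt_can_el _ _ _ m)).trans ?_
  exact L_el _ _

end

end Groth.Agent.Desc59.MD
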