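import Groth.Prelude.Def_Desc
import Mathlib

/-!
Calculus of descent data for the pseudofunctor of modules over rings, on generators.
-/

set_option autoImplicit false
set_option backward.isDefEq.respectTransparency false
set_option backward.isDefEq.respectTransparency.types false
set_option backward.defeqAttrib.useBackward true

universe u

open CategoryTheory Opposite
open Pseudofunctor LocallyDiscreteOpToCat
open scoped ChangeOfRings

namespace Groth.Agent.Desc59.MD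

noncomputable section

variable {S B B' : CommRingCat.{u}}

/-- extension of scalars along a map of rings -/
abbrev Ext (a : S ⟶ B) (M : ModuleCat.{u} S) : ModuleCat.{u} B := (ModuleCat.extendScalars a.hom).obj M

/-- the element `1 ⊗ m` -/
abbrev el (a : S ⟶ B) {M : ModuleCat.{u} S} (m : M) : Ext a M := (1 : B) ⊗ₜ[S, a.hom] m

/-- an application of the composition isomorphism, sealed -/
irreducible_def mcHom {C : Type (u + 1)} [Category.{u} C] (F : Pseudofunctor (LocallyDiscrete Cᵒᵖ) Cat.{u, u + 1})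
    {X Y Z : LocallyDiscrete Cᵒᵖ} (f₁ : X ⟶ Y) (f₂ : Y ⟶ Z) (f₃ : X ⟶ Z) (p : f₁ ≫ f₂ = f₃) (M : F.obj X) :
    (F.map f₃).toFunctor.obj M ⟶ (F.map f₂).toFunctor.obj ((F.map f₁).toFunctor.obj M) :=
  (F.mapComp' f₁ f₂ f₃ p).hom.toNatTrans.app M

/-- an application of the inverse of the composition isomorphism, sealed -/
irreducible_def mcInv {C : Type (u + 1)} [Category.{u} C] (F : Pseudofunctor (LocallyDiscrete Cᵒᵖ) Cat.{u, u + 1})
    {X Y Z : LocallyDiscrete Cᵒᵖ} (f₁ : X ⟶ Y) (f₂ : Y ⟶ Z) (f₃ : X ⟶ Z) (p : f₁ ≫ f₂ = f₃) (M : F.obj X) :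
    (F.map f₂).toFunctor.obj ((F.map f₁).toFunctor.obj M) ⟶ (F.map f₃).toFunctor.obj M :=
  (F.mapComp' f₁ f₂ f₃ p).inv.toNatTrans.app M

variable (g : S ⟶ B) (g' : B ⟶ B') (h : S ⟶ B') (e : g ≫ g' = h) (M : ModuleCat.{u} S)

/-- composition isomorphism, forwards -/
irreducible_def mcH : Ext h M ⟶ Ext g' (Ext g M) :=
  mcHom Desc.ringModPF.{u} g.op.op.toLoc g'.op.op.toLoc h.op.op.toLoc (by subst e; rfl) M

/-- composition isomorphism, backwards -/
irreducible_def mcI : Ext g' (Ext g M) ⟶ Ext h M :=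
  mcInv Desc.ringModPF.{u} g.op.op.toLoc g'.op.op.toLoc h.op.op.toLoc (by subst e; rfl) M

theorem mapComp_app {S B B' : CommRingCat.{u}} (g : S ⟶ B) (g' : B ⟶ B') (M : ModuleCat.{u} S) :
    (Desc.ringModPF.{u}.mapComp g.op.op.toLoc g'.op.op.toLoc).hom.toNatTrans.app M =
      (ModuleCat.extendScalarsComp g.hom g'.hom).hom.app M := by
  simp (config := { implicitDefEqProofs := false }) [Desc.ringModPF]
  rfl

theorem mcH_eq {S B B' : CommRingCat.{u}} (g : S ⟶ B) (g' : B ⟶ B') (M : ModuleCat.{u} S) :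
    mcH g g' (g ≫ g') rfl M = (ModuleCat.extendScalarsComp g.hom g'.hom).hom.app M :=
  by
  rw [mcH_def, mcHom_def]
  exact (congrArg (fun i => i.hom.toNatTrans.app M)
    (Desc.ringModPF.{u}.mapComp'_eq_mapComp g.op.op.toLoc g'.op.op.toLoc)).trans (mapComp_app g g' M)

theorem mcH_el (m : M) : mcH g g' h e M (el h m) = el g' (el g m) := by
  subst e
  rw [mcH_eq]
  exact ModuleCat.extendScalarsComp_hom_app_one_tmul g.hom g'.hom M m

theorem mapComp_inv_app {S B B' : CommRingCat.{u}} (g : S ⟶ B) (g' : B ⟶ B') (M : ModuleCat.{u} S) :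
    (Desc.ringModPF.{u}.mapComp g.op.op.toLoc g'.op.op.toLoc).inv.toNatTrans.app M =
      (ModuleCat.extendScalarsComp g.hom g'.hom).inv.app M := by
  simp (config := { implicitDefEqProofs := false }) [Desc.ringModPF]
  rfl

theorem mcI_eq {S B B' : CommRingCat.{u}} (g : S ⟶ B) (g' : B ⟶ B') (M : ModuleCat.{u} S) :
    mcI g g' (g ≫ g') rfl M = (ModuleCat.extendScalarsComp g.hom g'.hom).inv.app M :=
  by
  rw [mcI_def, mcInv_def]
  exact (congrArg (fun i => i.inv.toNatTrans.app M)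
    (Desc.ringModPF.{u}.mapComp'_eq_mapComp g.op.op.toLoc g'.op.op.toLoc)).trans (mapComp_inv_app g g' M)

theorem mcI_el (m : M) : mcI g g' h e M (el g' (el g m)) = el h m := by
  subst e
  rw [mcI_eq]
  have h1 : (ModuleCat.extendScalarsComp g.hom g'.hom).hom.app M (el (g ≫ g') m) = el g' (el g m) :=
    ModuleCat.extendScalarsComp_hom_app_one_tmul g.hom g'.hom M m
  refine (congrArg _ h1.symm).trans ?_
  exact (ModuleCat.extendScalarsComp g.hom g'.hom).hom_inv_id_app_apply M _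

omit M in
theorem el_smul {M : ModuleCat.{u} S} (s : S) (m : M) : el g (s • m) = g.hom s • el g m := by
  rw [el, el, ModuleCat.ExtendScalars.smul_tmul, mul_one]
  let : Module S B := Module.compHom B g.hom
  show (1 : B) ⊗ₜ[S] (s • m) = _
  rw [← TensorProduct.smul_tmul]
  congr 1
  show g.hom s * 1 = g.hom s
  rw [mul_one]

omit M in
theorem el_add {M : ModuleCat.{u} S} (x y : M) : el g (x + y) = el g x + el g y :=
  TensorProduct.tmul_add _ _ _

omit M in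
theorem el_zero {M : ModuleCat.{u} S} : el g (0 : M) = 0 :=
  TensorProduct.tmul_zero _ _

omit M in
theorem tmul_eq_smul_el {M : ModuleCat.{u} S} (b : B) (m : M) :
    ((b ⊗ₜ[S, g.hom] m) : Ext g M) = b • el g m := by
  rw [el, ModuleCat.ExtendScalars.smul_tmul, mul_one]

omit M in
/-- Every element is a combination of generators. -/
theorem induction_el {M : ModuleCat.{u} S} {motive : Ext g M → Prop} (x : Ext g M) (zero : motive 0)
    (smul : ∀ (b : B) (m : M), motive (b • el g m)) (add : ∀ x y, motive x → motive y → motive (x + y)) :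
    motive x := by
  induction x using TensorProduct.induction_on with
  | zero => exact zero
  | tmul b m => exact (tmul_eq_smul_el g (M := M) b m).symm ▸ smul b m
  | add x y hx hy => exact add x y hx hy

omit M in
theorem map_el {M N : ModuleCat.{u} S} (φ : M ⟶ N) (m : M) :
    (ModuleCat.extendScalars g.hom).map φ (el g m) = el g (φ m) := rfl

/-- push an element forward along a map of rings -/
def push : Ext g M →+ Ext h M where
  toFun x := mcI g g' h e M (el g' x)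
  map_zero' := by rw [el_zero, map_zero]
  map_add' x y := by rw [el_add, map_add]

theorem push_smul_el (b : B) (m : M) : push g g' h e M (b • el g m) = g'.hom b • el h m := by
  show mcI g g' h e M (el g' (b • el g m)) = _
  rw [el_smul, map_smul, mcI_el]

theorem pullHom_eq_of_proofs {C : Type (u + 1)} [Category.{u} C] {F : Pseudofunctor (LocallyDiscrete Cᵒᵖ) Cat.{u, u + 1}}
    {X₁ X₂ : C} {M₁ : F.obj (.mk (op X₁))} {M₂ : F.obj (.mk (op X₂))} {Y Y' : C} {f₁ : Y ⟶ X₁} {f₂ : Y ⟶ X₂}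
    (φ : (F.map f₁.op.toLoc).toFunctor.obj M₁ ⟶ (F.map f₂.op.toLoc).toFunctor.obj M₂) (g : Y' ⟶ Y)
    (gf₁ : Y' ⟶ X₁) (gf₂ : Y' ⟶ X₂) (h₁ : g ≫ f₁ = gf₁) (h₂ : g ≫ f₂ = gf₂)
    (p₁ : f₁.op.toLoc ≫ g.op.toLoc = gf₁.op.toLoc) (p₂ : f₂.op.toLoc ≫ g.op.toLoc = gf₂.op.toLoc) :
    pullHom φ g gf₁ gf₂ h₁ h₂ = mcHom F f₁.op.toLoc g.op.toLoc gf₁.op.toLoc p₁ M₁ ≫
      (F.map g.op.toLoc).toFunctor.map φ ≫ mcInv F f₂.op.toLoc g.op.toLoc gf₂.op.toLoc p₂ M₂ := by
  rw [mcHom_def, mcInv_def]; rfl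

theorem toDescentData_hom_of_proofs {C : Type (u + 1)} [Category.{u} C] {F : Pseudofunctor (LocallyDiscrete Cᵒᵖ) Cat.{u, u + 1}}
    {ι : Type u} {X : ι → C} {S : C} (f : ∀ i, X i ⟶ S) (M : F.obj (.mk (op S))) {Y : C} (q : Y ⟶ S) {i₁ i₂ : ι}
    (a : Y ⟶ X i₁) (b : Y ⟶ X i₂) (ha : a ≫ f i₁ = q) (hb : b ≫ f i₂ = q)
    (p₁ : (f i₁).op.toLoc ≫ a.op.toLoc = q.op.toLoc) (p₂ : (f i₂).op.toLoc ≫ b.op.toLoc = q.op.toLoc) :
    ((F.toDescentData f).obj M).hom q a b ha hb =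
      mcInv F (f i₁).op.toLoc a.op.toLoc q.op.toLoc p₁ M ≫
        mcHom F (f i₂).op.toLoc b.op.toLoc q.op.toLoc p₂ M := by
  rw [mcHom_def, mcInv_def]; rfl

theorem comm_of_proofs {C : Type (u + 1)} [Category.{u} C] {F : Pseudofunctor (LocallyDiscrete Cᵒᵖ) Cat.{u, u + 1}}
    {ι : Type u} {X : ι → C} {S : C} (f : ∀ i, X i ⟶ S) {M M' : F.obj (.mk (op S))}
    (Φ : (F.toDescentData f).obj M ⟶ (F.toDescentData f).obj M') {Y : C} (q : Y ⟶ S) {i₁ i₂ : ι}
    (a : Y ⟶ X i₁) (b : Y ⟶ X i₂) (ha : a ≫ f i₁ = q) (hb : b ≫ f i₂ = q)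
    (p₁ : (f i₁).op.toLoc ≫ a.op.toLoc = q.op.toLoc) (p₂ : (f i₂).op.toLoc ≫ b.op.toLoc = q.op.toLoc) :
    (F.map a.op.toLoc).toFunctor.map (Φ.hom i₁) ≫
        mcInv F (f i₁).op.toLoc a.op.toLoc q.op.toLoc p₁ M' ≫ mcHom F (f i₂).op.toLoc b.op.toLoc q.op.toLoc p₂ M' =
      (mcInv F (f i₁).op.toLoc a.op.toLoc q.op.toLoc p₁ M ≫ mcHom F (f i₂).op.toLoc b.op.toLoc q.op.toLoc p₂ M) ≫
        (F.map b.op.toLoc).toFunctor.map (Φ.hom i₂) := by
  rw [← toDescentData_hom_of_proofs f M' q a b ha hb, ← toDescentData_hom_of_proofs f M q a b ha hb]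
  exact Φ.comm q a b ha hb

theorem nonempty_iso_of_proofs {C : Type (u + 1)} [Category.{u} C] {F : Pseudofunctor (LocallyDiscrete Cᵒᵖ) Cat.{u, u + 1}}
    {ι : Type u} {X : ι → C} {S : C} (f : ∀ i, X i ⟶ S) (M : F.obj (.mk (op S))) (D : F.DescentData f)
    (E : ∀ i, (F.map (f i).op.toLoc).toFunctor.obj M ⟶ D.obj i) [∀ i, IsIso (E i)]
    (h : ∀ {Y : C} (q : Y ⟶ S) {i₁ i₂ : ι} (a : Y ⟶ X i₁) (b : Y ⟶ X i₂) (ha : a ≫ f i₁ = q) (hb : b ≫ f i₂ = q)
      (p₁ : (f i₁).op.toLoc ≫ a.op.toLoc = q.op.toLoc) (p₂ : (f i₂).op.toLoc ≫ b.op.toLoc = q.op.toLoc),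
      (F.map a.op.toLoc).toFunctor.map (E i₁) ≫ D.hom q a b ha hb =
        (mcInv F (f i₁).op.toLoc a.op.toLoc q.op.toLoc p₁ M ≫ mcHom F (f i₂).op.toLoc b.op.toLoc q.op.toLoc p₂ M) ≫
          (F.map b.op.toLoc).toFunctor.map (E i₂)) :
    Nonempty ((F.toDescentData f).obj M ≅ D) :=
  ⟨DescentData.isoMk (fun i => @asIso _ _ ((F.map (f i).op.toLoc).toFunctor.obj M) (D.obj i) (E i) _)
    fun Y q i₁ i₂ a b ha hb => by
      rw [toDescentData_hom_of_proofs f M q a b ha hb (by subst ha; rfl) (by subst hb; rfl)]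
      exact h q a b ha hb _ _⟩

section DescentData

variable {R₀ S₀ : CommRingCat.{u}} (f : R₀ ⟶ S₀)

/-- descent data relative to `f` -/
abbrev DD := Desc.ringModPF.{u}.DescentData (fun _ : PUnit.{u + 1} => f.op)

/-- the canonical datum -/
abbrev can (M₀ : ModuleCat.{u} R₀) : DD f :=
  (Desc.ringModPF.{u}.toDescentData (fun _ : PUnit.{u + 1} => f.op)).obj M₀

variable {f} (D : DD f)

/-- the underlying module -/
abbrev Nof : ModuleCat.{u} S₀ := D.obj ⟨⟩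

/-- the gluing map at a test ring -/
irreducible_def homAt {B : CommRingCat.{u}} (a b : S₀ ⟶ B) (hab : f ≫ a = f ≫ b) :
    Ext a (Nof D) ⟶ Ext b (Nof D) :=
  D.hom (i₁ := ⟨⟩) (i₂ := ⟨⟩) (f ≫ a).op a.op b.op rfl (congrArg Quiver.Hom.op hab.symm)

theorem hom_eq_homAt {B : CommRingCat.{u}} (q : R₀ ⟶ B) (a b : S₀ ⟶ B) (ha : f ≫ a = q) (hb : f ≫ b = q) :
    D.hom (i₁ := ⟨⟩) (i₂ := ⟨⟩) q.op a.op b.op (congrArg Quiver.Hom.op ha) (congrArg Quiver.Hom.op hb) =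
      homAt D a b (ha.trans hb.symm) := by
  subst ha
  exact (homAt_def D a b _).symm

theorem homAt_id : homAt D (𝟙 S₀) (𝟙 S₀) rfl = 𝟙 _ :=
  (homAt_def D _ _ rfl).trans <| D.hom_self (f ≫ 𝟙 _).op (i := ⟨⟩) (𝟙 S₀).op rfl

theorem homAt_comp {B : CommRingCat.{u}} (a b c : S₀ ⟶ B) (hab : f ≫ a = f ≫ b) (hbc : f ≫ b = f ≫ c) :
    homAt D a b hab ≫ homAt D b c hbc = homAt D a c (hab.trans hbc) := by
  rw [← hom_eq_homAt D (f ≫ a) b c hab.symm (hab.trans hbc).symm, homAt_def, homAt_def]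
  exact D.hom_comp (f ≫ a).op (i₁ := ⟨⟩) (i₂ := ⟨⟩) (i₃ := ⟨⟩) a.op b.op c.op rfl
    (congrArg Quiver.Hom.op hab.symm) (congrArg Quiver.Hom.op (hab.trans hbc).symm)

theorem homAt_push {B B' : CommRingCat.{u}} (g' : B ⟶ B') (a b : S₀ ⟶ B) (hab : f ≫ a = f ≫ b)
    (a' b' : S₀ ⟶ B') (ha : a ≫ g' = a') (hb : b ≫ g' = b') (hab' : f ≫ a' = f ≫ b') (n : Nof D) :
    homAt D a' b' hab' (el a' n) = push b g' b' hb (Nof D) (homAt D a b hab (el a n)) := by
  have hq : f ≫ a ≫ g' = f ≫ a' := by rw [ha]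
  have h := D.pullHom_hom g'.op (f ≫ a).op (f ≫ a').op (by rw [← op_comp, Category.assoc, hq])
    (i₁ := ⟨⟩) (i₂ := ⟨⟩) a.op b.op rfl (congrArg Quiver.Hom.op hab.symm) a'.op b'.op
    (by rw [← op_comp, ha]) (by rw [← op_comp, hb])
  have h2 : mcH a g' a' ha (Nof D) ≫ (ModuleCat.extendScalars g'.hom).map (homAt D a b hab) ≫
      mcI b g' b' hb (Nof D) = homAt D a' b' hab' := by
    rw [homAt_def D a' b' hab', ← h, homAt_def D a b hab, mcH_def, mcI_def]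
    exact (pullHom_eq_of_proofs (F := Desc.ringModPF.{u}) _ g'.op a'.op b'.op _ _ _ _).symm
  rw [← h2, ConcreteCategory.comp_apply, ConcreteCategory.comp_apply, mcH_el, map_el]
  rfl

theorem homAt_can_eq {M₀ : ModuleCat.{u} R₀} {B : CommRingCat.{u}} (a b : S₀ ⟶ B) (hab : f ≫ a = f ≫ b) :
    homAt (can f M₀) a b hab = mcI f a (f ≫ a) rfl M₀ ≫ mcH f b (f ≫ a) hab.symm M₀ := by
  rw [homAt_def, mcH_def, mcI_def]
  exact toDescentData_hom_of_proofs (F := Desc.ringModPF.{u}) _ M₀ _ _ _ _ _ _ _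

theorem homAt_can_el {M₀ : ModuleCat.{u} R₀} {B : CommRingCat.{u}} (a b : S₀ ⟶ B) (hab : f ≫ a = f ≫ b)
    (m : M₀) : homAt (can f M₀) a b hab (el a (el f m : Nof (can f M₀))) = el b (el f m : Nof (can f M₀)) := by
  refine (ConcreteCategory.congr_hom (homAt_can_eq a b hab) _).trans ((ConcreteCategory.comp_apply _ _ _).trans ?_)
  exact (congrArg _ (mcI_el f a _ rfl M₀ m)).trans (mcH_el f b _ hab.symm M₀ m)

/-- Constructor of isomorphisms with a canonical datum. -/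
theorem nonempty_iso_can {M₀ : ModuleCat.{u} R₀} (E : Ext f M₀ ⟶ Nof D) [hEiso : IsIso E]
    (hE : ∀ {B : CommRingCat.{u}} (a b : S₀ ⟶ B) (hab : f ≫ a = f ≫ b) (m : M₀),
      homAt D a b hab (el a (E (el f m))) = el b (E (el f m))) :
    Nonempty (can f M₀ ≅ D) := by
  refine @nonempty_iso_of_proofs _ _ Desc.ringModPF.{u} PUnit.{u + 1} _ _ (fun _ => f.op) M₀ D (fun _ => E)
    (fun _ => hEiso) ?_
  rintro ⟨B⟩ q ⟨⟩ ⟨⟩ a b ha hb p₁ p₂
  obtain ⟨q, rfl⟩ : ∃ q₀, q = Quiver.Hom.op q₀ := ⟨q.unop, rfl⟩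
  obtain ⟨a, rfl⟩ : ∃ a₀, a = Quiver.Hom.op a₀ := ⟨a.unop, rfl⟩
  obtain ⟨b, rfl⟩ : ∃ b₀, b = Quiver.Hom.op b₀ := ⟨b.unop, rfl⟩
  have ha' : f ≫ a = q := congrArg Quiver.Hom.unop ha
  have hb' : f ≫ b = q := congrArg Quiver.Hom.unop hb
  rw [hom_eq_homAt D q a b ha' hb']
  suffices key : (ModuleCat.extendScalars a.hom).map E ≫ homAt D a b (ha'.trans hb'.symm) =
      (mcI f a q ha' M₀ ≫ mcH f b q hb' M₀) ≫ (ModuleCat.extendScalars b.hom).map E by
    rw [mcI_def, mcH_def] at key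
    exact key
  refine ModuleCat.ExtendScalars.hom_ext (f := a.hom) (M := Ext f M₀) fun x => ?_
  show ((ModuleCat.extendScalars a.hom).map E ≫ homAt D a b (ha'.trans hb'.symm)) (el a x) =
    ((mcI f a q ha' M₀ ≫ mcH f b q hb' M₀) ≫ (ModuleCat.extendScalars b.hom).map E) (el a x)
  induction x using induction_el f with
  | zero => rw [el_zero, map_zero, map_zero]
  | add x y hx hy => rw [el_add, map_add, map_add, hx, hy]
  | smul s m =>
    rw [el_smul, map_smul, map_smul]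
    congr 1
    rw [ConcreteCategory.comp_apply, ConcreteCategory.comp_apply, ConcreteCategory.comp_apply, map_el, hE,
      mcI_el, mcH_el, map_el]

theorem hom_comm_el {M₀ M₁ : ModuleCat.{u} R₀} (Φ : can f M₀ ⟶ can f M₁) {B : CommRingCat.{u}}
    (a b : S₀ ⟶ B) (hab : f ≫ a = f ≫ b) (m : M₀) :
    homAt (can f M₁) a b hab (el a ((show Ext f M₀ ⟶ Ext f M₁ from Φ.hom ⟨⟩) (el f m))) =
      el b ((show Ext f M₀ ⟶ Ext f M₁ from Φ.hom ⟨⟩) (el f m) : Nof (can f M₁)) := by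
  have h : (ModuleCat.extendScalars a.hom).map (show Ext f M₀ ⟶ Ext f M₁ from Φ.hom ⟨⟩) ≫
        mcI f a (f ≫ a) rfl M₁ ≫ mcH f b (f ≫ a) hab.symm M₁ =
      (mcI f a (f ≫ a) rfl M₀ ≫ mcH f b (f ≫ a) hab.symm M₀) ≫
        (ModuleCat.extendScalars b.hom).map (show Ext f M₀ ⟶ Ext f M₁ from Φ.hom ⟨⟩) := by
    rw [mcI_def, mcH_def, mcI_def, mcH_def]
    exact comm_of_proofs (F := Desc.ringModPF.{u}) (fun _ : PUnit.{u + 1} => f.op) Φ (i₁ := ⟨⟩) (i₂ := ⟨⟩)
      (f ≫ a).op a.op b.op rfl (congrArg Quiver.Hom.op hab.symm) _ _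
  have h2 := ConcreteCategory.congr_hom h (el a (el f m : Ext f M₀))
  rw [ConcreteCategory.comp_apply, ConcreteCategory.comp_apply, ConcreteCategory.comp_apply,
    ConcreteCategory.comp_apply, map_el, mcI_el, mcH_el, map_el] at h2
  refine (ConcreteCategory.congr_hom (homAt_can_eq a b hab) _).trans ((ConcreteCategory.comp_apply _ _ _).trans ?_)
  exact h2

theorem map_eq_of_el {M₀ M₁ : ModuleCat.{u} R₀} (φ : M₀ ⟶ M₁) (Φ : can f M₀ ⟶ can f M₁)
    (h : ∀ m : M₀, (show Ext f M₀ ⟶ Ext f M₁ from Φ.hom ⟨⟩) (el f m) = el f (φ m)) :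
    (Desc.ringModPF.{u}.toDescentData (fun _ : PUnit.{u + 1} => f.op)).map φ = Φ := by
  apply DescentData.hom_ext
  rintro ⟨⟩
  exact ModuleCat.ExtendScalars.hom_ext (f := f.hom) (M := M₀) (N := Ext f M₁) fun m => (h m).symm

theorem el_eq_of_map_eq {M₀ M₁ : ModuleCat.{u} R₀} (φ φ' : M₀ ⟶ M₁)
    (h : (Desc.ringModPF.{u}.toDescentData (fun _ : PUnit.{u + 1} => f.op)).map φ =
      (Desc.ringModPF.{u}.toDescentData (fun _ : PUnit.{u + 1} => f.op)).map φ') (m : M₀) :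
    el f (φ m) = el f (φ' m) := by
  have h2 : (ModuleCat.extendScalars f.hom).map φ = (ModuleCat.extendScalars f.hom).map φ' :=
    congrArg (fun ψ => DescentData.Hom.hom ψ PUnit.unit) h
  rw [← map_el, ← map_el, h2]

theorem map_eq_map_of_el {M₀ M₁ : ModuleCat.{u} R₀} (φ φ' : M₀ ⟶ M₁) (h : ∀ m, el f (φ m) = el f (φ' m)) :
    (Desc.ringModPF.{u}.toDescentData (fun _ : PUnit.{u + 1} => f.op)).map φ =
      (Desc.ringModPF.{u}.toDescentData (fun _ : PUnit.{u + 1} => f.op)).map φ' := by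
  apply DescentData.hom_ext
  rintro ⟨⟩
  exact ModuleCat.ExtendScalars.hom_ext (f := f.hom) (M := M₀) (N := Ext f M₁) h

end DescentData


end

end Groth.Agent.Desc59.MD
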