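import Groth.Agent.Desc59.MD.Coaction
import Groth.Agent.Desc59.UnivInjFF
import Groth.Prelude.Def_Pi1

/-!
Effective descent of modules along universally injective ring maps.
-/

set_option autoImplicit false
set_option backward.isDefEq.respectTransparency false
set_option backward.isDefEq.respectTransparency.types false
set_option backward.defeqAttrib.useBackward true

universe u

open CategoryTheory Opposite TensorProduct
open scoped ChangeOfRings

namespace Groth.Agent.Desc59.MD

noncomputable section

variable {R S : Type u} [CommRing R] [CommRing S] [Algebra R S]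

instance instModuleR₀ (M : ModuleCat.{u} (CommRingCat.of R)) : Module R M :=
  inferInstanceAs (Module (CommRingCat.of R) M)

variable (R S) in
/-- the two forms of `S ⊗_R M` agree -/
def toExt (M : ModuleCat.{u} (CommRingCat.of R)) : S ⊗[R] M →+ Ext (base R S) M :=
  TensorProduct.liftAddHom
    (AddMonoidHom.mk' (fun s : S => AddMonoidHom.mk'
        (fun m : M => (s ⊗ₜ[CommRingCat.of R, (base R S).hom] m : Ext (base R S) M))
        fun x y => TensorProduct.tmul_add _ _ _)
      fun x y => by ext m; exact TensorProduct.add_tmul _ _ _)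
    fun r s m => by
      let : Module (CommRingCat.of R) S := Module.compHom S (base R S).hom
      show (r • s) ⊗ₜ[CommRingCat.of R] m = s ⊗ₜ[CommRingCat.of R] ((r : CommRingCat.of R) • m)
      rw [← TensorProduct.smul_tmul]
      congr 1
      exact Algebra.smul_def r s

theorem toExt_tmul (M : ModuleCat.{u} (CommRingCat.of R)) (s : S) (m : M) :
    toExt R S M (s ⊗ₜ[R] m) = s • el (base R S) m :=
  tmul_eq_smul_el (base R S) (s : CommRingCat.of S) m

theorem toExt_bijective (M : ModuleCat.{u} (CommRingCat.of R)) : Function.Bijective (toExt R S M) := by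
  let g : S →+ M →+ S ⊗[R] M :=
    AddMonoidHom.mk' (fun s : S => AddMonoidHom.mk' (fun m : M => s ⊗ₜ[R] m)
        fun x y => TensorProduct.tmul_add _ _ _)
      fun x y => by ext m; exact TensorProduct.add_tmul _ _ _
  have hg : ∀ (r : R) (s : S) (m : M), g (algebraMap R S r * s) m = g s (r • m) := fun r s m => by
    show (algebraMap R S r * s) ⊗ₜ[R] m = s ⊗ₜ[R] (r • m)
    rw [← Algebra.smul_def, TensorProduct.smul_tmul]
  let inv : Ext (base R S) M →+ S ⊗[R] M :=
    letI := Module.compHom S (base R S).hom
    TensorProduct.liftAddHom (R := CommRingCat.of R) (M := S) (N := M) g fun r s m => hg r s m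
  refine Function.bijective_iff_has_inverse.mpr ⟨inv, fun x => ?_, fun x => ?_⟩
  · induction x with
    | zero => rw [map_zero, map_zero]
    | add x y hx hy => rw [map_add, map_add, hx, hy]
    | tmul s m => rfl
  · induction x using TensorProduct.induction_on with
    | zero => rw [map_zero, map_zero]
    | add x y hx hy => rw [map_add, map_add, hx, hy]
    | tmul s m => rfl

theorem effective (h : DualSplit (Algebra.linearMap R S)) (D : DD (base R S)) :
    ∃ M : ModuleCat.{u} (CommRingCat.of R), Nonempty (can (base R S) M ≅ D) := by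
  let M : ModuleCat.{u} (CommRingCat.of R) := ModuleCat.of R (invariants (ψl D))
  let E : Ext (base R S) M ⟶ Nof D :=
    ModuleCat.ExtendRestrictScalarsAdj.HomEquiv.fromExtendScalars (algebraMap R S)
      (X := M) (Y := Nof D) (ModuleCat.ofHom (Y := (ModuleCat.restrictScalars (algebraMap R S)).obj (Nof D))
        { toFun := fun m => (m.1 : Nof D), map_add' := fun _ _ => rfl, map_smul' := fun _ _ => rfl })
  have hE : ∀ m : M, E (el (base R S) m) = m.1 := fun m => by
    show (1 : S) • (m.1 : Nof D) = m.1
    exact one_smul _ _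
  have hbij : Function.Bijective E := by
    have hb := lift_invariants_bijective h (ψ := ψl D) (ψ_smul D) (ψ_injective D) (ψ_coassoc D)
    have hcomp : ∀ x : S ⊗[R] M, E (toExt R S M x) =
        ((TensorProduct.lift (Algebra.lsmul R R (Nof D)).toLinearMap) ∘ₗ
          (LinearMap.lTensor S (invariants (ψl D)).subtype)) x := by
      intro x
      induction x with
      | zero =>
        rw [map_zero, map_zero]
        exact (map_zero ((TensorProduct.lift (Algebra.lsmul R R (Nof D)).toLinearMap) ∘ₗ
          (LinearMap.lTensor S (invariants (ψl D)).subtype))).symm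
      | add x y hx hy =>
        rw [map_add, map_add, hx, hy]
        exact (map_add ((TensorProduct.lift (Algebra.lsmul R R (Nof D)).toLinearMap) ∘ₗ
          (LinearMap.lTensor S (invariants (ψl D)).subtype)) x y).symm
      | tmul s m =>
        rw [toExt_tmul, map_smul, hE]
        rfl
    constructor
    · intro x y hxy
      obtain ⟨x, rfl⟩ := (toExt_bijective M).2 x
      obtain ⟨y, rfl⟩ := (toExt_bijective M).2 y
      rw [hcomp, hcomp] at hxy
      exact congrArg _ (hb.1 hxy)
    · intro y
      obtain ⟨x, hx⟩ := hb.2 y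
      exact ⟨toExt R S M x, (hcomp x).trans hx⟩
  have : IsIso E := (ConcreteCategory.isIso_iff_bijective E).mpr hbij
  refine ⟨M, nonempty_iso_can D E fun a b hab m => ?_⟩
  rw [hE, homAt_el, ← ψl_apply, (mem_invariants (ψl D) _).mp m.2, K_tmul, map_one, one_smul]

variable (R S) in
/-- `S ⊗ M' → S ⊗ M'` in the two forms, as a linear map into the underlying module. -/
def τ (M : ModuleCat.{u} (CommRingCat.of R)) : S ⊗[R] M →ₗ[R] Nof (can (base R S) M) where
  toFun x := toExt R S M x
  map_add' := map_add _
  map_smul' r x := by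
    induction x with
    | zero => rw [smul_zero, map_zero]; exact (smul_zero r).symm
    | add x y hx hy =>
      rw [smul_add, map_add, hx, hy, map_add]
      exact (smul_add r _ _).symm
    | tmul s m =>
      rw [TensorProduct.smul_tmul', toExt_tmul, toExt_tmul, Algebra.smul_def]
      exact mul_smul _ _ _

theorem bijective_map (h : DualSplit (Algebra.linearMap R S)) (M M' : ModuleCat.{u} (CommRingCat.of R)) :
    Function.Bijective ((Desc.ringModPF.{u}.toDescentData (fun _ : PUnit.{u + 1} => (base R S).op)).map :
      (M ⟶ M') → _) := by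
  have hη' : ∀ x y : M', el (base R S) x = el (base R S) y → x = y := fun x y hxy => by
    refine tmul_one_injective h M' ((toExt_bijective M').1 ?_)
    show toExt R S M' ((1 : S) ⊗ₜ[R] x) = toExt R S M' ((1 : S) ⊗ₜ[R] y)
    rw [toExt_tmul, toExt_tmul]
    exact congrArg _ hxy
  constructor
  · intro φ φ' e
    refine ModuleCat.hom_ext (LinearMap.ext fun m => ?_)
    exact hη' _ _ (el_eq_of_map_eq φ φ' e m)
  · intro Φ
    have hx : ∀ m : M, ∃ m' : M', el (base R S) m' =
        (show Ext (base R S) M ⟶ Ext (base R S) M' from Φ.hom ⟨⟩) (el (base R S) m) := by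
      intro m
      generalize hy : (show Ext (base R S) M ⟶ Ext (base R S) M' from Φ.hom ⟨⟩) (el (base R S) m) = y
      obtain ⟨x, hx⟩ := (toExt_bijective M').2 y
      have hl : ψ (can (base R S) M') (y : Nof (can (base R S) M')) = (1 : S) ⊗ₜ[R] (y : Nof (can (base R S) M')) := by
        rw [ψ_apply, ← hy]
        refine (congrArg _ (hom_comm_el Φ (inl R S) (inr R S) (base_inl_inr R S) m)).trans ?_
        exact L_el _ _
      have key : ∀ z, ψ (can (base R S) M') (τ R S M' z) =
          LinearMap.lTensor S (τ R S M') (LinearMap.lTensor S (TensorProduct.mk R S M' 1) z) := by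
        intro z
        induction z with
        | zero => rw [map_zero, map_zero, map_zero, map_zero]
        | add x y hx hy => rw [map_add, map_add, hx, hy, map_add, map_add]
        | tmul s m' =>
          rw [LinearMap.lTensor_tmul, LinearMap.lTensor_tmul]
          show ψ (can (base R S) M') (toExt R S M' (s ⊗ₜ[R] m')) = s ⊗ₜ[R] (toExt R S M' ((1 : S) ⊗ₜ[R] m'))
          rw [toExt_tmul, toExt_tmul]
          refine (ψ_smul (can (base R S) M') s _).trans ?_
          rw [ψ_can_el, TensorProduct.smul_tmul', smul_eq_mul, mul_one]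
          exact congrArg _ (one_smul _ _).symm
      have hτ : Function.Bijective (τ R S M') := toExt_bijective M'
      have hinj : Function.Injective (LinearMap.lTensor S (τ R S M')) :=
        ((LinearEquiv.ofBijective (τ R S M') hτ).lTensor S).injective
      have h3 : (1 : S) ⊗ₜ[R] x = LinearMap.lTensor S (TensorProduct.mk R S M' 1) x := hinj (by
        rw [LinearMap.lTensor_tmul, ← key]
        show (1 : S) ⊗ₜ[R] (toExt R S M' x : Nof (can (base R S) M')) = ψ (can (base R S) M') (toExt R S M' x)
        rw [hx, hl])
      obtain ⟨m', rfl⟩ := mem_range_tmul_one h M' x h3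
      refine ⟨m', ?_⟩
      rw [← hx]
      show _ = toExt R S M' ((1 : S) ⊗ₜ[R] m')
      rw [toExt_tmul]
      exact (one_smul _ _).symm
    choose m' hm' using hx
    refine ⟨ModuleCat.ofHom { toFun := m', map_add' := fun x y => hη' _ _ ?_, map_smul' := fun r x => hη' _ _ ?_ },
      map_eq_of_el _ Φ fun m => (hm' m).symm⟩
    · rw [hm', el_add, map_add, el_add, hm', hm']
    · rw [hm', el_smul, map_smul, ← hm']
      exact (el_smul (base R S) r _).symm

theorem isEquivalence (h : DualSplit (Algebra.linearMap R S)) :
    (Desc.ringModPF.{u}.toDescentData (fun _ : PUnit.{u + 1} => (base R S).op)).IsEquivalence where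
  faithful := ⟨fun {M M'} _ _ e => (bijective_map h M M').1 e⟩
  full := ⟨fun {M M'} Φ => (bijective_map h M M').2 Φ⟩
  essSurj := ⟨fun D => effective h D⟩

theorem univInjective_of_faithful
    (hF : (Desc.ringModPF.{u}.toDescentData (fun _ : PUnit.{u + 1} => (base R S).op)).Faithful) :
    Pi1.UnivInjective R S := by
  intro P _ _
  rw [injective_iff_map_eq_zero]
  intro x hx
  obtain ⟨p, rfl⟩ := (TensorProduct.rid R P).symm.surjective x
  let M₀ : ModuleCat.{u} (CommRingCat.of R) := ModuleCat.of R R
  let M₁ : ModuleCat.{u} (CommRingCat.of R) := ModuleCat.of R P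
  let φ : M₀ ⟶ M₁ := ModuleCat.ofHom (LinearMap.toSpanSingleton R P p)
  have hp1 : el (base R S) (show M₁ from p) = 0 := by
    let c : P ⊗[R] S →+ Ext (base R S) M₁ :=
      (toExt R S M₁).comp (TensorProduct.comm R P S).toAddEquiv.toAddMonoidHom
    have h1 : c (LinearMap.lTensor P (Algebra.linearMap R S) ((TensorProduct.rid R P).symm p)) = 0 := by
      rw [hx, map_zero]
    have h2 : LinearMap.lTensor P (Algebra.linearMap R S) ((TensorProduct.rid R P).symm p) = p ⊗ₜ[R] (1 : S) := by
      simp
    rw [h2] at h1
    have h3 : c (p ⊗ₜ[R] (1 : S)) = toExt R S M₁ ((1 : S) ⊗ₜ[R] (p : M₁)) := rfl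
    rw [h3, toExt_tmul, one_smul] at h1
    exact h1
  have h0 := hF.map_injective (map_eq_map_of_el (f := base R S) φ 0 fun r => by
    show el (base R S) ((r : CommRingCat.of R) • (p : M₁)) = el (base R S) (0 : M₁)
    rw [el_smul, hp1, smul_zero, el_zero])
  have hp : (1 : R) • p = 0 := congrArg (fun ψ : M₀ ⟶ M₁ => ψ (1 : R)) h0
  rw [one_smul] at hp
  rw [hp, map_zero]

theorem dualSplit_of_univInjective (h : Pi1.UnivInjective R S) : DualSplit (Algebra.linearMap R S) :=
  dualSplit_of_forall_injective_lTensor _ h

end

end Groth.Agent.Desc59.MD
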