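import Groth.Agent.Desc59.MD.Generic

/-!
The universal pair of maps `S ⇉ S ⊗ S` and the triple product.
-/

set_option autoImplicit false
set_option backward.isDefEq.respectTransparency false
set_option backward.isDefEq.respectTransparency.types false
set_option backward.defeqAttrib.useBackward true

universe u

open CategoryTheory Opposite TensorProduct
open scoped ChangeOfRings

namespace Groth.Agent.Desc59.MD

noncomputable section

variable {R S : Type u} [CommRing R] [CommRing S] [Algebra R S]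

/-- the base map -/
abbrev base (R S : Type u) [CommRing R] [CommRing S] [Algebra R S] :
    CommRingCat.of R ⟶ CommRingCat.of S := CommRingCat.ofHom (algebraMap R S)

variable (N : ModuleCat.{u} (CommRingCat.of S))

instance instModuleR : Module R N := Module.compHom N (algebraMap R S)
instance instModuleS : Module S N := inferInstanceAs (Module (CommRingCat.of S) N)
instance instTower : IsScalarTower R S N :=
  .of_algebraMap_smul fun _ _ => rfl

section K

variable {B : CommRingCat.{u}} (a b : CommRingCat.of S ⟶ B) (hab : base R S ≫ a = base R S ≫ b)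

/-- `s ⊗ n ↦ a s ⊗ n` -/
def K : S ⊗[R] N →+ Ext b N :=
  TensorProduct.liftAddHom
    (AddMonoidHom.mk' (fun s : S => AddMonoidHom.mk' (fun n : N => a.hom s • el b n) fun x y => by
      show a.hom s • el b (x + y) = _
      rw [← smul_add]
      exact congrArg _ (TensorProduct.tmul_add _ _ _))
      fun x y => by
        ext n
        show a.hom (x + y) • el b n = a.hom x • el b n + a.hom y • el b n
        rw [map_add, add_smul])
    fun r s n => by
      show a.hom (r • s) • el b n = a.hom s • el b ((algebraMap R S r) • n)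
      rw [el_smul, smul_smul, Algebra.smul_def, map_mul, mul_comm]
      congr 2
      exact congr(($hab).hom r)

theorem K_tmul (s : S) (n : N) : K N a b hab (s ⊗ₜ[R] n) = a.hom s • el b n := rfl

end K

section Universal

/-- `S ⊗ S` -/
abbrev T2 (R S : Type u) [CommRing R] [CommRing S] [Algebra R S] : CommRingCat.{u} :=
  CommRingCat.of (S ⊗[R] S)
/-- first inclusion -/
abbrev inl (R S : Type u) [CommRing R] [CommRing S] [Algebra R S] : CommRingCat.of S ⟶ T2 R S :=
  CommRingCat.ofHom (Algebra.TensorProduct.includeLeft : S →ₐ[R] S ⊗[R] S).toRingHom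
/-- second inclusion -/
abbrev inr (R S : Type u) [CommRing R] [CommRing S] [Algebra R S] : CommRingCat.of S ⟶ T2 R S :=
  CommRingCat.ofHom (Algebra.TensorProduct.includeRight : S →ₐ[R] S ⊗[R] S).toRingHom

variable (R S) in
theorem base_inl_inr : base R S ≫ inl R S = base R S ≫ inr R S := by
  ext r
  show (Algebra.TensorProduct.includeLeft : S →ₐ[R] S ⊗[R] S) (algebraMap R S r) =
    (Algebra.TensorProduct.includeRight : S →ₐ[R] S ⊗[R] S) (algebraMap R S r)
  rw [AlgHom.commutes, AlgHom.commutes]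

/-- `(s ⊗ s') n ↦ s ⊗ s' n` -/
def ρ : S ⊗[R] S →ₗ[R] N →ₗ[R] S ⊗[R] N :=
  TensorProduct.lift (LinearMap.mk₂ R (fun s s' => (TensorProduct.mk R S N s).comp (Algebra.lsmul R R N s'))
    (fun s s' t => by ext n; simp [TensorProduct.add_tmul])
    (fun r s t => by ext n; simp [TensorProduct.smul_tmul'])
    (fun s t t' => by ext n; simp [TensorProduct.tmul_add, add_smul])
    (fun r s t => by ext n; simp [TensorProduct.tmul_smul]))

theorem ρ_tmul (s s' : S) (n : N) : ρ N (s ⊗ₜ[R] s') n = s ⊗ₜ[R] (s' • n) := rfl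

theorem ρ_inr (σ : S) (t : S ⊗[R] S) (n : N) :
    ρ N ((1 ⊗ₜ[R] σ) * t) n = ρ N t (σ • n) := by
  induction t with
  | zero => simp
  | tmul x y => rw [Algebra.TensorProduct.tmul_mul_tmul, one_mul, ρ_tmul, ρ_tmul, smul_smul, mul_comm]
  | add x y hx hy => simp [mul_add, hx, hy]

/-- identification of `(S ⊗ S) ⊗ N` with `S ⊗ N` -/
def L : Ext (inr R S) N →+ S ⊗[R] N :=
  letI := Module.compHom (T2 R S) (inr R S).hom
  TensorProduct.liftAddHom (R := CommRingCat.of S) (M := T2 R S)
    (AddMonoidHom.mk' (fun t : T2 R S => (ρ N t).toAddMonoidHom)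
      fun x y => by ext n; show ρ N (x + y) n = _; rw [map_add]; rfl)
    fun σ t n => ρ_inr N σ (t : S ⊗[R] S) n

theorem L_smul_el (t : T2 R S) (n : N) : L N (t • el (inr R S) n) = ρ N t n := by
  rw [← tmul_eq_smul_el]
  rfl

theorem L_el (n : N) : L (R := R) N (el (inr R S) n) = (1 : S) ⊗ₜ[R] n := by
  have h := L_smul_el (R := R) N 1 n
  rw [one_smul] at h
  rw [h, Algebra.TensorProduct.one_def, ρ_tmul, one_smul]

theorem L_inl_smul (s : S) (x : Ext (inr R S) N) :
    L N ((inl R S).hom s • x) = s • L N x := by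
  induction x using TensorProduct.induction_on with
  | zero => rw [smul_zero, map_zero, smul_zero]
  | add x y hx hy => rw [smul_add, map_add, hx, hy, map_add, smul_add]
  | tmul t n =>
    have ht : (inl R S).hom s • (t ⊗ₜ[CommRingCat.of S, (inr R S).hom] n : Ext (inr R S) N) =
        ((inl R S).hom s * (show T2 R S from t)) • el (inr R S) n :=
      (congrArg _ (tmul_eq_smul_el (inr R S) (show T2 R S from t) n)).trans (smul_smul _ _ _)
    refine (congrArg (L N) ht).trans ?_
    rw [L_smul_el]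
    suffices key : ∀ t : S ⊗[R] S, ρ N ((s ⊗ₜ[R] (1 : S)) * t) n = s • ρ N t n from key t
    intro t
    induction t with
    | zero => simp
    | tmul x y => rw [Algebra.TensorProduct.tmul_mul_tmul, one_mul, ρ_tmul, ρ_tmul, TensorProduct.smul_tmul', smul_eq_mul]
    | add x y hx hy => simp [mul_add, hx, hy, smul_add]

/-- the map to an arbitrary ring -/
def toB {B : CommRingCat.{u}} (a b : CommRingCat.of S ⟶ B) (hab : base R S ≫ a = base R S ≫ b) :
    T2 R S ⟶ B :=
  letI := (base R S ≫ a).hom.toAlgebra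
  CommRingCat.ofHom (Algebra.TensorProduct.productMap
    ({ a.hom with commutes' := fun _ => rfl } : S →ₐ[R] B)
    ({ b.hom with commutes' := fun r => (congr(($hab).hom r)).symm } : S →ₐ[R] B)).toRingHom

theorem toB_tmul {B : CommRingCat.{u}} (a b : CommRingCat.of S ⟶ B) (hab : base R S ≫ a = base R S ≫ b)
    (s s' : S) : (toB a b hab).hom (s ⊗ₜ[R] s') = a.hom s * b.hom s' := rfl

theorem inl_toB {B : CommRingCat.{u}} (a b : CommRingCat.of S ⟶ B) (hab : base R S ≫ a = base R S ≫ b) :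
    inl R S ≫ toB a b hab = a := by
  ext s
  show (toB a b hab).hom (s ⊗ₜ[R] (1 : S)) = _
  rw [toB_tmul, map_one, mul_one]

theorem inr_toB {B : CommRingCat.{u}} (a b : CommRingCat.of S ⟶ B) (hab : base R S ≫ a = base R S ≫ b) :
    inr R S ≫ toB a b hab = b := by
  ext s
  show (toB a b hab).hom ((1 : S) ⊗ₜ[R] s) = _
  rw [toB_tmul, map_one, one_mul]

theorem push_eq_K {B : CommRingCat.{u}} (a b : CommRingCat.of S ⟶ B) (hab : base R S ≫ a = base R S ≫ b)
    (x : Ext (inr R S) N) :
    push (inr R S) (toB a b hab) b (inr_toB a b hab) N x = K N a b hab (L N x) := by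
  induction x using TensorProduct.induction_on with
  | zero => rw [map_zero, map_zero, map_zero]
  | add x y hx hy => rw [map_add, hx, hy, map_add, map_add]
  | tmul t n =>
    have ht : (t ⊗ₜ[CommRingCat.of S, (inr R S).hom] n : Ext (inr R S) N) = t • el (inr R S) n :=
      tmul_eq_smul_el _ _ _
    refine (congrArg _ ht).trans (Eq.trans ?_ (congrArg (fun z => K N a b hab (L N z)) ht).symm)
    rw [L_smul_el, push_smul_el]
    suffices key : ∀ t : S ⊗[R] S, (toB a b hab).hom t • el b n = K N a b hab (ρ N t n) from key t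
    intro t
    induction t with
    | zero => simp
    | tmul x y =>
      rw [ρ_tmul, K_tmul, toB_tmul, el_smul, smul_smul]
    | add x y hx hy => simp [add_smul, hx, hy]

/-- the map from a single test object -/
abbrev S3 (R S : Type u) [CommRing R] [CommRing S] [Algebra R S] : CommRingCat.{u} :=
  CommRingCat.of (S ⊗[R] (S ⊗[R] S))
/-- inclusions in the triple product -/
abbrev i₁ (R S : Type u) [CommRing R] [CommRing S] [Algebra R S] : CommRingCat.of S ⟶ S3 R S :=
  CommRingCat.ofHom (Algebra.TensorProduct.includeLeft : S →ₐ[R] S ⊗[R] (S ⊗[R] S)).toRingHom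
/-- inclusions in the triple product -/
abbrev i₂ (R S : Type u) [CommRing R] [CommRing S] [Algebra R S] : CommRingCat.of S ⟶ S3 R S :=
  CommRingCat.ofHom ((Algebra.TensorProduct.includeRight : S ⊗[R] S →ₐ[R] S ⊗[R] (S ⊗[R] S)).comp
    Algebra.TensorProduct.includeLeft).toRingHom
/-- inclusions in the triple product -/
abbrev i₃ (R S : Type u) [CommRing R] [CommRing S] [Algebra R S] : CommRingCat.of S ⟶ S3 R S :=
  CommRingCat.ofHom ((Algebra.TensorProduct.includeRight : S ⊗[R] S →ₐ[R] S ⊗[R] (S ⊗[R] S)).comp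
    (Algebra.TensorProduct.includeRight : S →ₐ[R] S ⊗[R] S)).toRingHom

/-- `(s ⊗ t) n ↦ s ⊗ ρ t n` -/
def ρ3 : S ⊗[R] (S ⊗[R] S) →ₗ[R] N →ₗ[R] S ⊗[R] (S ⊗[R] N) :=
  TensorProduct.lift (LinearMap.mk₂ R (fun s t => (TensorProduct.mk R S _ s).comp (ρ N t))
    (fun s s' t => by ext n; simp [TensorProduct.add_tmul])
    (fun r s t => by ext n; simp [TensorProduct.smul_tmul'])
    (fun s t t' => by ext n; simp [TensorProduct.tmul_add])
    (fun r s t => by ext n; simp [TensorProduct.tmul_smul]))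

theorem ρ3_tmul (s : S) (t : S ⊗[R] S) (n : N) : ρ3 N (s ⊗ₜ[R] t) n = s ⊗ₜ[R] ρ N t n := rfl

theorem ρ3_i₃ (σ : S) (t : S ⊗[R] (S ⊗[R] S)) (n : N) :
    ρ3 N ((1 ⊗ₜ[R] (1 ⊗ₜ[R] σ)) * t) n = ρ3 N t (σ • n) := by
  induction t with
  | zero => simp
  | tmul x y => rw [Algebra.TensorProduct.tmul_mul_tmul, one_mul, ρ3_tmul, ρ3_tmul, ρ_inr]
  | add x y hx hy => simp [mul_add, hx, hy]

/-- identification of `(S ⊗ S ⊗ S) ⊗ N` with `S ⊗ S ⊗ N` -/
def L3 : Ext (i₃ R S) N →+ S ⊗[R] (S ⊗[R] N) :=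
  letI := Module.compHom (S3 R S) (i₃ R S).hom
  TensorProduct.liftAddHom (R := CommRingCat.of S) (M := S3 R S)
    (AddMonoidHom.mk' (fun t : S3 R S => (ρ3 N t).toAddMonoidHom)
      fun x y => by ext n; show ρ3 N (x + y) n = _; rw [map_add]; rfl)
    fun σ t n => ρ3_i₃ N σ (t : S ⊗[R] (S ⊗[R] S)) n

theorem L3_smul_el (t : S3 R S) (n : N) : L3 N (t • el (i₃ R S) n) = ρ3 N t n := by
  rw [← tmul_eq_smul_el]
  rfl

theorem L3_i₁ (s : S) (n : N) :
    L3 (R := R) N ((i₁ R S).hom s • el (i₃ R S) n) = s ⊗ₜ[R] ((1 : S) ⊗ₜ[R] n) := by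
  rw [L3_smul_el]
  show ρ3 N (s ⊗ₜ[R] (1 : S ⊗[R] S)) n = _
  rw [ρ3_tmul, Algebra.TensorProduct.one_def, ρ_tmul, one_smul]

theorem L3_i₁_i₂ (s s' : S) (n : N) :
    L3 (R := R) N ((i₁ R S).hom s • (i₂ R S).hom s' • el (i₃ R S) n) = s ⊗ₜ[R] (s' ⊗ₜ[R] n) := by
  rw [smul_smul, L3_smul_el]
  show ρ3 N ((s ⊗ₜ[R] (1 : S ⊗[R] S)) * ((1 : S) ⊗ₜ[R] (s' ⊗ₜ[R] (1 : S)))) n = _
  rw [Algebra.TensorProduct.tmul_mul_tmul, mul_one, one_mul, ρ3_tmul, ρ_tmul, one_smul]

end Universal


end

end Groth.Agent.Desc59.MD
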